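import Groth.Agent.H7Flat.LocalSection
import Groth.Agent.H25Pur.Birational

/-!
A quasi-finite algebra over an absolutely integrally closed local domain with a valuation point over
the closed point has a section.
-/

set_option autoImplicit false
set_option linter.style.haveILetI false
universe u

open scoped TensorProduct

namespace Groth.Agent.H18Qfh

theorem exists_algHom_of_valuationPoint {R A C W : Type u} [CommRing R] [CommRing A] [IsDomain A]
    [IsLocalRing A] [IsIntegrallyClosed A] [IsAlgClosed (FractionRing A)] [CommRing C] [CommRing W]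
    [IsDomain W] [IsLocalRing W] [Algebra R A] [Algebra R C] [Algebra.FiniteType R C]
    [Algebra.QuasiFinite R C] [Algebra R W] [Algebra A W] [IsScalarTower R A W]
    (hinj : Function.Injective (algebraMap A W)) [IsLocalHom (algebraMap A W)] (c : C →ₐ[R] W) :
    Nonempty (C →ₐ[R] A) := by
  let Φ : A ⊗[R] C →ₐ[A] W :=
    Algebra.TensorProduct.lift (Algebra.ofId A W) c (fun _ _ => Commute.all _ _)
  haveI : Algebra.QuasiFinite A Φ.range := Algebra.QuasiFinite.of_surjective_algHom Φ.rangeRestrict
    Φ.rangeRestrict_surjective
  haveI : Algebra.FiniteType A Φ.range :=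
    Algebra.FiniteType.of_surjective Φ.rangeRestrict Φ.rangeRestrict_surjective
  have hS : Function.Injective (algebraMap A Φ.range) := fun a b h =>
    hinj (congrArg Subtype.val h)
  haveI : FaithfulSMul A Φ.range := (faithfulSMul_iff_algebraMap_injective _ _).2 hS
  haveI : IsLocalHom (algebraMap A Φ.range) := ⟨fun a ha => by
    have := ha.map Φ.range.val
    rw [AlgHom.commutes] at this
    exact IsUnit.of_map (algebraMap A W) a this⟩
  let q : Ideal Φ.range := (IsLocalRing.maximalIdeal W).comap Φ.range.val
  haveI : q.IsPrime := Ideal.IsPrime.comap _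
  have hq : q.comap (algebraMap A Φ.range) = IsLocalRing.maximalIdeal A := by
    show Ideal.comap (Φ.range.val.toRingHom.comp (algebraMap A Φ.range)) (IsLocalRing.maximalIdeal W) = _
    rw [show Φ.range.val.toRingHom.comp (algebraMap A Φ.range) = algebraMap A W from
      RingHom.ext fun _ => rfl]
    exact ((IsLocalRing.local_hom_TFAE (algebraMap A W)).out 0 4).1 ‹_›
  have halg : ∀ s : Φ.range, IsAlgebraic A s := by
    intro s
    let K := FractionRing A
    let L := FractionRing Φ.range
    letI : Algebra K L := FractionRing.liftAlgebra A L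
    haveI : Algebra.QuasiFinite A L :=
      Algebra.QuasiFinite.of_isLocalization (R := A) (nonZeroDivisors Φ.range) (T := L)
    haveI : Algebra.QuasiFinite K L := Algebra.QuasiFinite.of_restrictScalars A K L
    haveI : Module.Finite K L := Module.Finite.of_quasiFinite
    have h1 : IsAlgebraic K (algebraMap Φ.range L s) := Algebra.IsAlgebraic.isAlgebraic _
    exact (isAlgebraic_algebraMap_iff (IsFractionRing.injective Φ.range L)).1
      ((IsFractionRing.isAlgebraic_iff A K L).2 h1)
  have hb := Groth.Agent.H25Pur.bijective_localRingHom_of_quasiFiniteAt hS (fun s => by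
    obtain ⟨x, y, hy, hxy⟩ := H7Flat.exists_mul_eq_algebraMap_of_isAlgebraic s (halg s)
    exact ⟨x, y, hy, hxy⟩) q
  -- `A` is its own localization at the maximal ideal
  have hA : ∀ x : (q.comap (algebraMap A Φ.range)).primeCompl, IsUnit (x : A) := fun x => by
    have := x.2
    exact IsLocalRing.notMem_maximalIdeal.1 fun h => this (hq.ge h)
  haveI : IsLocalization (q.comap (algebraMap A Φ.range)).primeCompl A :=
    IsLocalization.at_units (fun x hx => hA ⟨x, hx⟩)
  let e : A ≃ₐ[A] Localization.AtPrime (q.comap (algebraMap A Φ.range)) :=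
    IsLocalization.algEquiv (q.comap (algebraMap A Φ.range)).primeCompl _ _
  let θ : A →+* Localization.AtPrime q :=
    (Localization.localRingHom _ q (algebraMap A Φ.range) rfl).comp e.toRingEquiv.toRingHom
  have hθ : ∀ a, θ a = algebraMap Φ.range (Localization.AtPrime q) (algebraMap A Φ.range a) := fun a => by
    show Localization.localRingHom _ q _ rfl (e a) = _
    rw [show e a = algebraMap A _ a from e.commutes a, Localization.localRingHom_to_map]
  let Θ : A ≃+* Localization.AtPrime q := RingEquiv.ofBijective θ (hb.comp e.bijective)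
  let g : C →+* A := Θ.symm.toRingHom.comp ((algebraMap Φ.range (Localization.AtPrime q)).comp
    (Φ.rangeRestrict.toRingHom.comp (Algebra.TensorProduct.includeRight (R := R) (A := A) (B := C)).toRingHom))
  refine ⟨{ g with commutes' := fun r => ?_ }⟩
  show Θ.symm (algebraMap Φ.range _ (Φ.rangeRestrict ((1 : A) ⊗ₜ algebraMap R C r))) = _
  rw [RingEquiv.symm_apply_eq]
  show _ = θ _
  rw [hθ]
  congr 1
  apply Subtype.ext
  show Φ ((1 : A) ⊗ₜ algebraMap R C r) = algebraMap A W (algebraMap R A r)
  simp [Φ, IsScalarTower.algebraMap_apply R A W]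

end Groth.Agent.H18Qfh
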