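import Groth.Agent.H18Qfh.Local
import Groth.Agent.H18HTop.SpecLiftDVR
import Groth.Agent.H7Lim.Approx.IntegralSystem

/-!
qfh coverings are refined by a finite surjective morphism followed by a Zariski covering.
-/

set_option autoImplicit false
set_option linter.style.haveILetI false
set_option backward.isDefEq.respectTransparency false
universe u

open CategoryTheory CategoryTheory.Limits AlgebraicGeometry Opposite

namespace Groth.Agent.H18Qfh

/-- Descending a map on an open of a cofiltered limit over the base. -/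
theorem exists_stage {Y X : Scheme.{u}} (f : X ⟶ Y) [LocallyOfFinitePresentation f] {I : Type u}
    [Category.{u} I] [IsCofiltered I] (F : I ⥤ Scheme.{u}) [∀ i, CompactSpace (F.obj i)]
    [∀ i, QuasiSeparatedSpace (F.obj i)] [∀ {i j} (a : i ⟶ j), IsAffineHom (F.map a)]
    (p : F ⟶ (Functor.const I).obj Y) (c : Cone F) (hc : IsLimit c) (q : c.pt ⟶ Y)
    (hq : ∀ i, c.π.app i ≫ p.app i = q) (V : c.pt.Opens) (hV : IsCompact (V : Set c.pt))
    (h : V.toScheme ⟶ X) (hh : h ≫ f = V.ι ≫ q) :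
    ∃ (i : I) (U : (F.obj i).Opens), IsCompact (U : Set (F.obj i)) ∧ c.π.app i ⁻¹ᵁ U = V ∧
      ∃ h' : U.toScheme ⟶ X, h' ≫ f = U.ι ≫ p.app i := by
  obtain ⟨i, U, hU, rfl⟩ := exists_preimage_eq F c hc V hV
  haveI : ∀ j : Over i, CompactSpace ((opensDiagram F i U).obj j) := fun j =>
    isCompact_iff_compactSpace.mp (QuasiCompact.isCompact_preimage (f := F.map j.hom) _ U.2 hU)
  haveI : ∀ j : Over i, QuasiSeparatedSpace ((opensDiagram F i U).obj j) := fun j =>
    quasiSeparatedSpace_of_quasiSeparated (F.map j.hom ⁻¹ᵁ U).ι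
  let t : opensDiagram F i U ⟶ (Functor.const (Over i)).obj Y :=
    { app := fun j => (F.map j.hom ⁻¹ᵁ U).ι ≫ p.app j.left
      naturality := fun j k a => by
        have := p.naturality a.left
        simp only [Functor.const_obj_map, Category.comp_id] at this ⊢
        rw [opensDiagram_map, Scheme.Hom.resLE_comp_ι_assoc]
        exact congrArg ((F.map j.hom ⁻¹ᵁ U).ι ≫ ·) this }
  obtain ⟨j, h', -, hh'⟩ := Scheme.exists_π_app_comp_eq_of_locallyOfFinitePresentation
    (opensDiagram F i U) t f (opensCone F c i U) (isLimitOpensCone F c hc i U) h (by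
      ext j
      show (c.π.app j.left).resLE _ _ _ ≫ (F.map j.hom ⁻¹ᵁ U).ι ≫ p.app j.left = h ≫ f
      rw [Scheme.Hom.resLE_comp_ι_assoc, hh, hq])
  refine ⟨j.left, F.map j.hom ⁻¹ᵁ U, QuasiCompact.isCompact_preimage (f := F.map j.hom) _ U.2 hU, ?_,
    h', hh'⟩
  rw [← Scheme.Hom.comp_preimage, c.w]

theorem exists_finite_refinement {Y : Scheme.{u}} [IsNoetherian Y] (E : PreZeroHypercover.{u} Y)
    [Finite E.I₀] [∀ j, LocallyOfFiniteType (E.f j)] [∀ j, QuasiCompact (E.f j)]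
    [∀ j, LocallyQuasiFinite (E.f j)] (hE : SGA1.UnivSubmersive (Sigma.desc E.f)) :
    ∃ (Y' : Scheme.{u}) (p : Y' ⟶ Y) (n : ℕ) (V : Fin n → Y'.Opens), IsFinite p ∧ Surjective p ∧
      ⨆ i, V i = ⊤ ∧
      ∀ i, ∃ (j : E.I₀) (h : (↑(V i) : Scheme.{u}) ⟶ E.X j), h ≫ E.f j = (V i).ι ≫ p := by
  classical
  let P := H7Flat.aicScheme Y
  haveI : IsIntegralHom (H7Flat.aicProj Y) := H7Flat.isIntegralHom_aicProj Y
  haveI : CompactSpace P := QuasiCompact.compactSpace_of_compactSpace (H7Flat.aicProj Y)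
  obtain ⟨I, _, _, _, D, c, hc, hfin, ⟨e⟩⟩ := H7Lim.Approx.exists_finite_fp_system (H7Flat.aicProj Y)
  haveI : ∀ i, IsFinite (D.obj i).hom := fun i => (hfin i).1
  let F := D ⋙ Over.forget Y
  haveI : ∀ i, CompactSpace (F.obj i) := fun i =>
    QuasiCompact.compactSpace_of_compactSpace (D.obj i).hom
  haveI : ∀ i, QuasiSeparatedSpace (F.obj i) := fun i =>
    quasiSeparatedSpace_of_quasiSeparated (D.obj i).hom
  haveI : ∀ {i j} (a : i ⟶ j), IsAffineHom (F.map a) := fun {i j} a => by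
    haveI : IsAffineHom ((D.map a).left ≫ (D.obj j).hom) := by
      rw [Over.w]; infer_instance
    exact MorphismProperty.of_postcomp @IsAffineHom (D.map a).left (D.obj j).hom
      (show IsSeparated (D.obj j).hom from inferInstance) inferInstance
  haveI : IsConnected Iᵒᵖ := CategoryTheory.IsCofiltered.isConnected _
  let cF := (Over.forget Y).mapCone c
  have hcF : IsLimit cF := isLimitOfPreserves (Over.forget Y) hc
  let p : F ⟶ (Functor.const Iᵒᵖ).obj Y :=
    { app := fun i => (D.obj i).hom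
      naturality := fun i j a => by simp [F] }
  let q : cF.pt ⟶ Y := c.pt.hom
  have hq : ∀ i, cF.π.app i ≫ p.app i = q := fun i => Over.w (c.π.app i)
  haveI : IsIso e.hom.left := inferInstanceAs (IsIso ((Over.forget Y).map e.hom))
  have hqe : e.hom.left ≫ H7Flat.aicProj Y = q := Over.w e.hom
  haveI : CompactSpace (Over.mk (H7Flat.aicProj Y)).left := ‹CompactSpace P›
  haveI : CompactSpace cF.pt := QuasiCompact.compactSpace_of_compactSpace e.hom.left
  have loc : ∀ x : cF.pt, ∃ (V : cF.pt.Opens), x ∈ V ∧ IsCompact (V : Set cF.pt) ∧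
      ∃ (j : E.I₀) (h : V.toScheme ⟶ E.X j), h ≫ E.f j = V.ι ≫ q := by
    intro x
    obtain ⟨V, hxV, hV, j, h, hh⟩ := exists_local_lift E hE (e.hom.left x)
    refine ⟨e.hom.left ⁻¹ᵁ V, hxV, (hV.preimage _).isCompact, j, (e.hom.left ∣_ V) ≫ h, ?_⟩
    rw [Category.assoc, hh, morphismRestrict_ι_assoc, hqe]
  choose V hxV hVc jV hmap hmapf using loc
  obtain ⟨s, hs⟩ := isCompact_univ.elim_finite_subcover (fun x => (V x : Set cF.pt))
    (fun x => (V x).2) (fun x _ => Set.mem_iUnion.2 ⟨x, hxV x⟩)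
  haveI : ∀ j, LocallyOfFinitePresentation (E.f j) := fun j =>
    H18HTop.locallyOfFinitePresentation_of_noetherian (E.f j)
  have st := fun x : s => exists_stage (E.f (jV x.1)) F p cF hcF q hq (V x.1) (hVc x.1) (hmap x.1)
    (hmapf x.1)
  choose k U hUc hUV h' hh' using st
  obtain ⟨i₀, hi₀⟩ := IsCofiltered.inf_objs_exists (Finset.univ.image k)
  let a : ∀ x, i₀ ⟶ k x := fun x => (hi₀ (Finset.mem_image_of_mem k (Finset.mem_univ x))).some
  obtain ⟨i, b, hb⟩ := exists_map_eq_top F cF hcF (⨆ x, F.map (a x) ⁻¹ᵁ U x) (by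
    rw [Scheme.Hom.preimage_iSup]
    refine top_le_iff.1 fun z _ => ?_
    obtain ⟨x, hx, hz⟩ := Set.mem_iUnion₂.1 (hs (Set.mem_univ z))
    refine TopologicalSpace.Opens.mem_iSup.2 ⟨⟨x, hx⟩, ?_⟩
    rw [← Scheme.Hom.comp_preimage, cF.w, hUV]
    exact hz)
  let ex := s.equivFin
  let W : Fin s.card → (F.obj i).Opens := fun m => F.map (b ≫ a (ex.symm m)) ⁻¹ᵁ U (ex.symm m)
  refine ⟨F.obj i, (D.obj i).hom, s.card, W, inferInstance, ⟨fun y => ?_⟩, ?_, fun m => ?_⟩
  · obtain ⟨z, hz⟩ := H7Flat.surjective_aicProj Y y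
    refine ⟨cF.π.app i (inv e.hom.left z), ?_⟩
    rw [← Scheme.Hom.comp_apply, show cF.π.app i ≫ (D.obj i).hom = q from hq i, ← hqe,
      Scheme.Hom.comp_apply]
    have hzz : e.hom.left (inv e.hom.left z) = z :=
      (Scheme.Hom.comp_apply (inv e.hom.left) e.hom.left z).symm.trans (by rw [IsIso.inv_hom_id]; rfl)
    exact (congrArg (H7Flat.aicProj Y) hzz).trans hz
  · refine top_le_iff.1 (hb.ge.trans ?_)
    rw [Scheme.Hom.preimage_iSup]
    refine iSup_le fun x => le_iSup_of_le (ex x) ?_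
    have : ∀ y, y = x → F.map b ⁻¹ᵁ F.map (a x) ⁻¹ᵁ U x ≤ F.map (b ≫ a y) ⁻¹ᵁ U y := by
      rintro y rfl
      rw [F.map_comp, Scheme.Hom.comp_preimage]
    exact this _ (ex.symm_apply_apply x)
  · refine ⟨jV (ex.symm m).1, (F.map (b ≫ a (ex.symm m)) ∣_ U (ex.symm m)) ≫ h' (ex.symm m), ?_⟩
    rw [Category.assoc, hh', morphismRestrict_ι_assoc]
    exact congrArg ((W m).ι ≫ ·) ((p.naturality (b ≫ a (ex.symm m))).trans (Category.comp_id _))

end Groth.Agent.H18Qfh
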