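import Groth.Agent.H18Qfh.Refine
import Groth.Agent.H9Et.DescentLocalEff
import Groth.Agent.H13Flat.Algebra
import Groth.Agent.H10Coh.Proper2
import Groth.Agent.H8Props.ThickeningFiniteType
import Groth.Agent.H7Lim.Proper.Descend
import Groth.Agent.H7Lim.FPDescent.Noetherian

/-!
# Finite type descends along universally submersive morphisms of Noetherian schemes
-/

set_option autoImplicit false
set_option linter.style.haveILetI false
set_option backward.isDefEq.respectTransparency false

universe u

open CategoryTheory CategoryTheory.Limits AlgebraicGeometry TopologicalSpace HTop Opposite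
open scoped TensorProduct

namespace Groth.Agent.H18Qfh.DescendFT

/-- Global functions of a proper scheme over a Noetherian ring form a finite module. -/
theorem finite_toΓ {A : Type u} [CommRing A] [IsNoetherianRing A] {P : Scheme.{u}}
    (q : P ⟶ Spec (CommRingCat.of A)) [IsProper q] : (H10Coh.toΓ q).Finite := by
  let φ := H10Coh.toΓ q
  let R := H10Coh.MRes.inj (Coh.structureModule P)
  have h : H10Coh.FinH φ (R.Z 0) 0 ⊤ :=
    H10Coh.finH_proper q (Coh.structureModule P) (H10Coh.isCoh_structureModule' P) 0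
  obtain ⟨k, z, hz⟩ := H10Coh.exists_finset_cocycles φ R 0 ⊤ h
  letI := φ.toAlgebra
  show Module.Finite A Γ(P, ⊤)
  refine Module.Finite.of_surjective (Fintype.linearCombination A fun j => (show Γ(P, ⊤) from z j)) fun w => ?_
  obtain ⟨c, hc⟩ := hz w
  refine ⟨c, (sub_eq_zero.1 ((map_eq_zero_iff _ (H10Coh.mcls_zero_injective R ⊤)).1 hc) ▸ ?_)⟩
  rw [Fintype.linearCombination_apply]
  refine Finset.sum_congr rfl fun j _ => ?_
  rw [Algebra.smul_def]
  show φ (c j) * _ = H10Coh.gres (φ (c j)) ⊤ * _
  congr 1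
  unfold H10Coh.gres
  simp

/-- The strict transform of a universally submersive morphism under a flattening blow up. -/
theorem exists_strict_surjective {X Y : Scheme.{u}} [IsNoetherian Y] [IsReduced Y] (f : X ⟶ Y)
    [LocallyOfFiniteType f] [QuasiCompact f] [QuasiSeparated f] (hf : SGA1.UnivSubmersive f) :
    ∃ (Y'' X'' : Scheme.{u}) (b : Y'' ⟶ Y) (g : X'' ⟶ Y'') (c : X'' ⟶ X), IsProper b ∧ Surjective b ∧
      IsNoetherian Y'' ∧ Flat g ∧ LocallyOfFinitePresentation g ∧ Surjective g ∧ LocallyOfFiniteType c ∧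
      c ≫ f = g ≫ b := by
  obtain ⟨V, hVd, hVf⟩ := exists_dense_flat f
  haveI := hVf
  haveI : LocallyOfFiniteType (f ∣_ V) := IsZariskiLocalAtTarget.restrict (P := @LocallyOfFiniteType) inferInstance _
  haveI : IsLocallyNoetherian (V : Scheme.{u}) := isLocallyNoetherian_of_isOpenImmersion V.ι
  haveI : LocallyOfFinitePresentation (f ∣_ V) := H18HTop.locallyOfFinitePresentation_of_noetherian _
  obtain ⟨𝓘, Y'', b, hb, hadm, haway, hflat⟩ :=
    H7Flat.Flatten.exists_strict_flattening f V (NoetherianSpace.isCompact _)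
  haveI : IsProper b := H26Blow.isProper_of_isBlowUp hb fun y => by
    obtain ⟨U, hU, hyU, -⟩ := exists_isAffineOpen_mem_and_subset (Opens.mem_top y)
    exact ⟨⟨U, hU⟩, hyU, hadm.1 _⟩
  haveI : Surjective b := ⟨by
    have hV : (V : Set Y) ⊆ Set.range b := fun y hy => by
      haveI : IsIso (b ∣_ V) := H29Blow.isIso_morphismRestrict hb V fun x hx => by
        have : x ∈ awayFrom 𝓘 := haway ▸ hx
        exact this
      obtain ⟨z, hz⟩ := (b ∣_ V).surjective ⟨y, hy⟩
      exact ⟨z.1, (H18HTop.JhAlmost.restrict_coe b V z).symm.trans (congrArg Subtype.val hz)⟩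
    intro y
    exact closure_minimal hV b.isClosedMap.isClosed_range (hVd y)⟩
  haveI : IsLocallyNoetherian Y'' := LocallyOfFiniteType.isLocallyNoetherian b
  haveI : CompactSpace Y'' := QuasiCompact.compactSpace_of_compactSpace b
  haveI : IsNoetherian Y'' := {}
  let p₁ := pullback.snd b f
  let p₂ := pullback.fst b f
  let K := supportedOn ((𝓘.comap f).comap p₁)
  let g := K.subschemeι ≫ p₂
  obtain ⟨hgfl, hgfp, -, -⟩ := hflat _ p₁ p₂ (IsPullback.of_hasPullback b f).flip
  refine ⟨Y'', K.subscheme, b, g, K.subschemeι ≫ p₁, inferInstance, inferInstance, inferInstance, hgfl, hgfp,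
    ⟨fun y => ?_⟩, inferInstance, ?_⟩
  · haveI := H7Flat.Flatten.isDominant_awayFrom hb.1
    have hd : Dense (awayFrom (𝓘.comap b) : Set Y'') := by
      have := (awayFrom (𝓘.comap b)).ι.denseRange
      rwa [DenseRange, Scheme.Opens.range_ι] at this
    obtain ⟨y₀, hy₀, hsp⟩ := exists_specializes_of_dense _ hd y
    haveI : Finite (PreZeroHypercover.singleton.{u} f).I₀ := inferInstanceAs (Finite PUnit)
    haveI : ∀ i, LocallyOfFiniteType ((PreZeroHypercover.singleton.{u} f).f i) := fun _ => ‹LocallyOfFiniteType f›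
    haveI : ∀ i, QuasiCompact ((PreZeroHypercover.singleton.{u} f).f i) := fun _ => ‹QuasiCompact f›
    obtain ⟨⟨⟩, a, a', haa, ha, ha'⟩ := H18HTop.exists_specializes_pullback (PreZeroHypercover.singleton.{u} f)
      ((H18HTop.univSubmersive_iff_desc_singleton f).1 hf) b hsp
    have hmem : a ∈ awayFrom ((𝓘.comap f).comap p₁) := by
      rw [← Scheme.IdealSheafData.comap_comp, show p₁ ≫ f = p₂ ≫ b from pullback.condition.symm,
        Scheme.IdealSheafData.comap_comp, H18HTop.awayFrom_comap]
      show p₂ a ∈ awayFrom (𝓘.comap b)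
      exact ha.symm ▸ hy₀
    obtain ⟨z, hz⟩ : a ∈ Set.range K.subschemeι := by
      let A' := awayFrom ((𝓘.comap f).comap p₁)
      let a₁ : (A' : Scheme.{u}) := ⟨a, hmem⟩
      refine ⟨A'.ι.toImage a₁, ?_⟩
      show (A'.ι.toImage ≫ A'.ι.imageι) a₁ = a
      rw [A'.ι.toImage_imageι]
      rfl
    obtain ⟨z', hz'⟩ : a' ∈ Set.range K.subschemeι :=
      haa.mem_closed K.subschemeι.isClosedEmbedding.isClosed_range ⟨z, hz⟩
    exact ⟨z', by rw [Scheme.Hom.comp_apply, hz']; exact ha'⟩
  · simp only [g, Category.assoc]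
    rw [show p₁ ≫ f = p₂ ≫ b from pullback.condition.symm]

/-- Finite type descends along flat surjective finitely presented morphisms to the source. -/
theorem locallyOfFiniteType_of_flat {X Y : Scheme.{u}} {R : CommRingCat.{u}} [IsLocallyNoetherian Y] (g : X ⟶ Y)
    [Flat g] [LocallyOfFinitePresentation g] [Surjective g] (h : Y ⟶ Spec R) [LocallyOfFiniteType (g ≫ h)] :
    LocallyOfFiniteType h := by
  have hloc : ∀ y : Y, ∃ U : Y.affineOpens, y ∈ U.1 ∧ LocallyOfFiniteType (U.1.ι ≫ h) := by
    intro y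
    obtain ⟨x, rfl⟩ := g.surjective y
    obtain ⟨U₀, hU₀, hxU₀, -⟩ := exists_isAffineOpen_mem_and_subset (Opens.mem_top (g x))
    obtain ⟨A₀, hA₀, hxA₀, hA₀le⟩ := exists_isAffineOpen_mem_and_subset (U := g ⁻¹ᵁ U₀) (x := x) hxU₀
    obtain ⟨r, hr, hxr⟩ := hU₀.exists_basicOpen_le
      (V := ⟨g '' (A₀ : Set X), g.isOpenMap _ A₀.2⟩) ⟨g x, x, hxA₀, rfl⟩ hxU₀
    let U := Y.basicOpen r
    have hU : IsAffineOpen U := hU₀.basicOpen r
    let A : X.Opens := X.basicOpen ((g.appLE U₀ A₀ hA₀le).hom r)
    have hA : IsAffineOpen A := hA₀.basicOpen _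
    have hAeq : A = A₀ ⊓ g ⁻¹ᵁ U := by
      refine Opens.ext ?_
      simp only [A, U, Scheme.Hom.appLE, CommRingCat.hom_comp, RingHom.comp_apply, Scheme.basicOpen_res,
        ← Scheme.preimage_basicOpen]
    have e : A ≤ g ⁻¹ᵁ U := hAeq.le.trans inf_le_right
    refine ⟨⟨U, hU⟩, hxr, ?_⟩
    haveI : IsAffine (U : Scheme.{u}) := hU
    haveI : IsAffine (A : Scheme.{u}) := hA
    let ρ := g.resLE U A e
    haveI : Surjective ρ := ⟨fun z => by
      obtain ⟨w, hw, hwz⟩ := hr z.2
      have hwA : w ∈ A := by rw [hAeq]; exact ⟨hw, by show g w ∈ U; rw [hwz]; exact z.2⟩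
      refine ⟨⟨w, hwA⟩, Subtype.ext ?_⟩
      show U.ι (ρ ⟨w, hwA⟩) = z.1
      rw [← Scheme.Hom.comp_apply, Scheme.Hom.resLE_comp_ι, Scheme.Hom.comp_apply]
      exact hwz⟩
    haveI : Flat ρ := by
      haveI : Flat (A.ι ≫ g) := inferInstance
      haveI : Flat (ρ ≫ U.ι) := by rw [Scheme.Hom.resLE_comp_ι]; infer_instance
      exact MorphismProperty.of_postcomp (W := @Flat) (W' := @IsOpenImmersion) ρ U.ι inferInstance inferInstance
    haveI : LocallyOfFinitePresentation ρ := by
      haveI : LocallyOfFinitePresentation (ρ ≫ U.ι) := by rw [Scheme.Hom.resLE_comp_ι]; infer_instance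
      exact H7Lim.locallyOfFinitePresentation_of_comp ρ U.ι
    let φ : R ⟶ Γ(U, ⊤) := (Scheme.ΓSpecIso R).inv ≫ (U.ι ≫ h).appTop
    let ψ : Γ(U, ⊤) ⟶ Γ(A, ⊤) := ρ.appTop
    have hψfl : ψ.hom.Flat := (HasRingHomProperty.iff_of_isAffine (P := @Flat)).1 inferInstance
    have hψfp : ψ.hom.FinitePresentation :=
      (HasRingHomProperty.iff_of_isAffine (P := @LocallyOfFinitePresentation)).1 inferInstance
    have hsurj : Function.Surjective (PrimeSpectrum.comap ψ.hom) := by
      haveI : Surjective (Spec.map ψ) := by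
        rw [show Spec.map ψ = (A : Scheme.{u}).isoSpec.inv ≫ ρ ≫ (U : Scheme.{u}).isoSpec.hom by
          rw [← Scheme.isoSpec_inv_naturality_assoc, Iso.inv_hom_id, Category.comp_id]]
        infer_instance
      exact (Spec.map ψ).surjective
    have hcomp : (φ ≫ ψ).hom.FiniteType := by
      haveI : LocallyOfFiniteType (A.ι ≫ g ≫ h) := inferInstance
      have e' : φ ≫ ψ = (Scheme.ΓSpecIso R).inv ≫ (A.ι ≫ g ≫ h).appTop := by
        have e2 : A.ι ≫ g ≫ h = ρ ≫ U.ι ≫ h := by rw [Scheme.Hom.resLE_comp_ι_assoc]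
        rw [e2]
        simp [φ, ψ, Scheme.Hom.comp_appTop]
      rw [e', CommRingCat.hom_comp]
      exact RingHom.FiniteType.comp ((HasRingHomProperty.iff_of_isAffine (P := @LocallyOfFiniteType)).1 inferInstance)
        (RingHom.FiniteType.of_surjective _ (ConcreteCategory.bijective_of_isIso (Scheme.ΓSpecIso R).inv).2)
    algebraize [φ.hom, ψ.hom, ψ.hom.comp φ.hom]
    haveI : Module.Flat Γ(U, ⊤) Γ(A, ⊤) := hψfl
    haveI : Algebra.FinitePresentation Γ(U, ⊤) Γ(A, ⊤) := hψfp
    haveI : Module.FaithfullyFlat Γ(U, ⊤) Γ(A, ⊤) := Module.FaithfullyFlat.of_comap_surjective hsurj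
    haveI : Algebra.FiniteType R Γ(A, ⊤) := hcomp
    have hφ : φ.hom.FiniteType := H13Flat.finiteType_of_faithfullyFlat (R := R) (A := Γ(U, ⊤)) (B := Γ(A, ⊤))
    have e3 : (U.ι ≫ h).appTop = (Scheme.ΓSpecIso R).hom ≫ φ := by simp [φ]
    refine (HasRingHomProperty.iff_of_isAffine (P := @LocallyOfFiniteType)).2 ?_
    rw [e3, CommRingCat.hom_comp]
    exact hφ.comp (RingHom.FiniteType.of_surjective _ (ConcreteCategory.bijective_of_isIso (Scheme.ΓSpecIso R).hom).2)
  choose U hyU hU using hloc
  exact (IsZariskiLocalAtSource.iff_of_iSup_eq_top (P := @LocallyOfFiniteType) (fun y => (U y).1)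
    (top_le_iff.1 fun y _ => Opens.mem_iSup.2 ⟨y, hyU y⟩)).2 hU

/-- A reduced ring with a proper surjection from a scheme of finite type over `R` is of finite type over `R`. -/
theorem finiteType_of_proper_surjective {R A : Type u} [CommRing R] [CommRing A] [IsNoetherianRing R]
    [IsNoetherianRing A] [_root_.IsReduced A] [Algebra R A] {Y'' : Scheme.{u}}
    (π : Y'' ⟶ Spec (CommRingCat.of A)) [IsProper π] [Surjective π]
    [LocallyOfFiniteType (π ≫ Spec.map (CommRingCat.ofHom (algebraMap R A)))] : Algebra.FiniteType R A := by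
  classical
  haveI : LocallyOfFinitePresentation π := H18HTop.locallyOfFinitePresentation_of_noetherian π
  let c : Cone ((H7Lim.FPDescent.subringFunctor A).op ⋙ Scheme.Spec) :=
    Scheme.Spec.mapCone (H7Lim.FPDescent.subringCocone A).op
  have hc : IsLimit c := isLimitOfPreserves Scheme.Spec (H7Lim.FPDescent.subringIsColimit A).op
  let D := (H7Lim.FPDescent.subringFunctor A).op ⋙ Scheme.Spec
  haveI : ∀ (i j : (Finset A)ᵒᵖ) (φ : i ⟶ j), IsAffineHom (D.map φ) := fun i j φ =>
    inferInstanceAs (IsAffineHom (Spec.map _))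
  haveI : ∀ i, CompactSpace (D.obj i) := fun i => inferInstanceAs (CompactSpace ↥(Spec _))
  haveI : ∀ i, QuasiSeparatedSpace (D.obj i) := fun i => inferInstanceAs (QuasiSeparatedSpace ↥(Spec _))
  haveI : Nonempty (Finset A) := ⟨∅⟩
  obtain ⟨i, ⟨M⟩⟩ := H7Lim.FPDescent.exists_model hc (X := Y'') π
  haveI := M.lfp
  haveI := M.qc
  haveI := M.qs
  haveI : CompactSpace M.P := QuasiCompact.compactSpace_of_compactSpace M.p
  haveI : QuasiSeparatedSpace M.P := quasiSeparatedSpace_of_quasiSeparated M.p
  obtain ⟨j, φj, hj⟩ := H7Lim.descends_isProper _ D c hc i M.p inferInstance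
    ((H7Lim.prop_iff_of_isPullback (P := @IsProper) M.hpb).1 inferInstance)
  let As := Algebra.adjoin ℤ ((unop j : Finset A) : Set A)
  let P := pullback M.p (D.map φj)
  let p : P ⟶ Spec (CommRingCat.of As) := pullback.snd M.p (D.map φj)
  haveI : IsProper p := hj
  haveI : CompactSpace (Spec (CommRingCat.of As)) := inferInstance
  haveI : CompactSpace P := QuasiCompact.compactSpace_of_compactSpace p
  let gj : Y'' ⟶ P := pullback.lift M.g (π ≫ c.π.app j) (by rw [Category.assoc, c.w φj]; exact M.hpb.w)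
  have hsq : IsPullback gj π p (Spec.map (CommRingCat.ofHom (algebraMap As A))) :=
    IsPullback.of_right (h₁₂ := pullback.fst M.p (D.map φj)) (h₂₂ := D.map φj) (v₁₃ := M.p)
      (by rw [pullback.lift_fst, show Spec.map (CommRingCat.ofHom (algebraMap As A)) ≫ D.map φj = c.π.app i from
        c.w φj]; exact M.hpb)
      (pullback.lift_snd _ _ _) (IsPullback.of_hasPullback _ _)
  -- affine charts of the model
  let 𝒰 := P.affineCover.finiteSubcover
  haveI : Finite 𝒰.I₀ := inferInstanceAs (Finite P.affineCover.finiteSubcover.I₀)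
  let B : 𝒰.I₀ → CommRingCat.{u} := fun k => Γ(𝒰.X k, ⊤)
  haveI : ∀ k, IsAffine (𝒰.X k) := fun k => by dsimp [𝒰]; infer_instance
  let σ : ∀ k, Spec (B k) ⟶ P := fun k => (𝒰.X k).isoSpec.inv ≫ 𝒰.f k
  haveI : ∀ k, IsOpenImmersion (σ k) := fun k => inferInstanceAs (IsOpenImmersion (_ ≫ _))
  letI : ∀ k, Algebra As (B k) := fun k => (Spec.preimage (σ k ≫ p)).hom.toAlgebra
  have hBsq : ∀ k, σ k ≫ p = Spec.map (CommRingCat.ofHom (algebraMap As (B k))) := fun k =>
    (Spec.map_preimage _).symm
  have hsqk : ∀ k, ∃ ι' : Spec (CommRingCat.of (A ⊗[As] B k)) ⟶ Y'', IsOpenImmersion ι' ∧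
      ι' ≫ π = Spec.map (CommRingCat.ofHom Algebra.TensorProduct.includeLeftRingHom) := fun k => by
    have h1 : IsPullback (Spec.map (CommRingCat.ofHom
        (Algebra.TensorProduct.includeRight (R := As) (A := A) (B := B k)).toRingHom))
        (Spec.map (CommRingCat.ofHom (Algebra.TensorProduct.includeLeftRingHom : A →+* A ⊗[As] B k)))
        (σ k ≫ p) (Spec.map (CommRingCat.ofHom (algebraMap As A))) := by
      rw [hBsq]
      exact (isPullback_SpecMap_of_isPushout _ _ _ _ (CommRingCat.isPushout_tensorProduct As A (B k))).flip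
    let ι' := hsq.lift (Spec.map (CommRingCat.ofHom
        (Algebra.TensorProduct.includeRight (R := As) (A := A) (B := B k)).toRingHom) ≫ σ k)
      (Spec.map (CommRingCat.ofHom (Algebra.TensorProduct.includeLeftRingHom : A →+* A ⊗[As] B k))) (by
        rw [Category.assoc]; exact h1.w)
    have h2 : IsPullback (Spec.map (CommRingCat.ofHom
        (Algebra.TensorProduct.includeRight (R := As) (A := A) (B := B k)).toRingHom)) ι' (σ k) gj :=
      IsPullback.of_bot (by rw [hsq.lift_snd]; exact h1) (hsq.lift_fst _ _ _).symm hsq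
    exact ⟨ι', MorphismProperty.of_isPullback h2 (inferInstanceAs (IsOpenImmersion (σ k))), hsq.lift_snd _ _ _⟩
  have hft : ∀ k, Algebra.FiniteType R (A ⊗[As] B k) := fun k => by
    obtain ⟨ι', hι', hι⟩ := hsqk k
    haveI := hι'
    haveI : LocallyOfFiniteType (ι' ≫ π ≫ Spec.map (CommRingCat.ofHom (algebraMap R A))) := inferInstance
    have h3 : LocallyOfFiniteType (Spec.map (CommRingCat.ofHom (algebraMap R (A ⊗[As] B k)))) := by
      rw [show Spec.map (CommRingCat.ofHom (algebraMap R (A ⊗[As] B k))) =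
          ι' ≫ π ≫ Spec.map (CommRingCat.ofHom (algebraMap R A)) by
        rw [← Category.assoc, hι, ← Spec.map_comp, ← CommRingCat.ofHom_comp]; rfl]
      infer_instance
    rw [HasRingHomProperty.Spec_iff (P := @LocallyOfFiniteType)] at h3
    exact RingHom.finiteType_algebraMap.1 h3
  choose gens hgens using fun k => (hft k).out
  choose dec hdec using fun (k : 𝒰.I₀) (z : A ⊗[As] B k) => TensorProduct.exists_finset z
  let := Fintype.ofFinite 𝒰.I₀
  let T : Finset A := (unop j : Finset A) ∪
    Finset.univ.biUnion fun k => (gens k).biUnion fun z => (dec k z).image Prod.fst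
  let Ai := Algebra.adjoin R (T : Set A)
  haveI : IsNoetherianRing Ai := isNoetherianRing_of_fg ⟨T, rfl⟩
  have hle : ∀ x : As, (x : A) ∈ Ai := fun x => by
    have : As ≤ Ai.restrictScalars ℤ := Algebra.adjoin_le fun a ha =>
      Algebra.subset_adjoin (Finset.mem_coe.2 (Finset.mem_union_left _ ha))
    exact this x.2
  letI : Algebra As Ai := ((algebraMap As A).codRestrict Ai hle).toAlgebra
  haveI : IsScalarTower As Ai A := IsScalarTower.of_algebraMap_eq fun _ => rfl
  let ιA : Ai →ₐ[As] A := IsScalarTower.toAlgHom As Ai A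
  let Pi' := pullback p (Spec.map (CommRingCat.ofHom (algebraMap As Ai)))
  let pi' : Pi' ⟶ Spec (CommRingCat.of Ai) := pullback.snd _ _
  haveI : IsProper pi' := MorphismProperty.pullback_snd (P := @IsProper) _ _ inferInstance
  have hfac : Spec.map (CommRingCat.ofHom ιA.toRingHom) ≫ Spec.map (CommRingCat.ofHom (algebraMap As Ai)) =
      Spec.map (CommRingCat.ofHom (algebraMap As A)) := by
    rw [← Spec.map_comp, ← CommRingCat.ofHom_comp]; rfl
  let v : Y'' ⟶ Pi' := pullback.lift gj (π ≫ Spec.map (CommRingCat.ofHom ιA.toRingHom))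
    (by rw [Category.assoc, hfac]; exact hsq.w)
  haveI : IsClosedImmersion v := by
    let 𝒱 := Scheme.Pullback.openCoverOfLeft 𝒰 p (Spec.map (CommRingCat.ofHom (algebraMap As Ai)))
    refine (IsZariskiLocalAtTarget.iff_of_openCover (P := @IsClosedImmersion) 𝒱).2 fun k => ?_
    let C := Ai ⊗[As] B k
    let μ : C →ₐ[As] A ⊗[As] B k := Algebra.TensorProduct.map ιA (AlgHom.id As (B k))
    have hμ : Function.Surjective μ := fun z => by
      letI : Algebra R C := ((algebraMap Ai C).comp (algebraMap R Ai)).toAlgebra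
      let μR : C →ₐ[R] A ⊗[As] B k :=
        { μ.toRingHom with
          commutes' := fun r => by
            show μ ((algebraMap Ai C) (algebraMap R Ai r)) = _
            simp [μ, C, Algebra.TensorProduct.algebraMap_apply, ιA]
            }
      have : (⊤ : Subalgebra R (A ⊗[As] B k)) ≤ μR.range := by
        rw [← hgens k, Algebra.adjoin_le_iff]
        intro y hy
        rw [SetLike.mem_coe, hdec k y]
        refine sum_mem fun ab hab => ?_
        have hT : ab.1 ∈ Ai := Algebra.subset_adjoin (Finset.mem_coe.2 (Finset.mem_union_right _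
          (Finset.mem_biUnion.2 ⟨k, Finset.mem_univ _, Finset.mem_biUnion.2 ⟨y, hy, Finset.mem_image.2 ⟨ab, hab, rfl⟩⟩⟩)))
        exact ⟨(⟨ab.1, hT⟩ : Ai) ⊗ₜ ab.2, rfl⟩
      exact this trivial
    -- the chart of the target
    have hc1 : IsPullback (Spec.map (CommRingCat.ofHom
        (Algebra.TensorProduct.includeRight (R := As) (A := Ai) (B := B k)).toRingHom))
        (Spec.map (CommRingCat.ofHom (Algebra.TensorProduct.includeLeftRingHom : Ai →+* C)))
        (σ k ≫ p) (Spec.map (CommRingCat.ofHom (algebraMap As Ai))) := by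
      rw [hBsq]
      exact (isPullback_SpecMap_of_isPushout _ _ _ _ (CommRingCat.isPushout_tensorProduct As Ai (B k))).flip
    let τc := pullback.lift (f := p) (g := Spec.map (CommRingCat.ofHom (algebraMap As Ai)))
      (Spec.map (CommRingCat.ofHom
        (Algebra.TensorProduct.includeRight (R := As) (A := Ai) (B := B k)).toRingHom) ≫ σ k)
      (Spec.map (CommRingCat.ofHom (Algebra.TensorProduct.includeLeftRingHom : Ai →+* C)))
      (by rw [Category.assoc]; exact hc1.w)
    have hc2 : IsPullback (Spec.map (CommRingCat.ofHom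
        (Algebra.TensorProduct.includeRight (R := As) (A := Ai) (B := B k)).toRingHom)) τc (σ k)
        (pullback.fst p (Spec.map (CommRingCat.ofHom (algebraMap As Ai)))) :=
      IsPullback.of_bot (by rw [pullback.lift_snd]; exact hc1) (pullback.lift_fst _ _ _).symm
        (IsPullback.of_hasPullback _ _)
    haveI : IsOpenImmersion τc := MorphismProperty.of_isPullback hc2 (inferInstanceAs (IsOpenImmersion (σ k)))
    -- the chart of the source
    have hd1 : IsPullback (Spec.map (CommRingCat.ofHom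
        (Algebra.TensorProduct.includeRight (R := As) (A := A) (B := B k)).toRingHom))
        (Spec.map (CommRingCat.ofHom (Algebra.TensorProduct.includeLeftRingHom : A →+* A ⊗[As] B k)))
        (σ k ≫ p) (Spec.map (CommRingCat.ofHom (algebraMap As A))) := by
      rw [hBsq]
      exact (isPullback_SpecMap_of_isPushout _ _ _ _ (CommRingCat.isPushout_tensorProduct As A (B k))).flip
    let τd := hsq.lift (Spec.map (CommRingCat.ofHom
        (Algebra.TensorProduct.includeRight (R := As) (A := A) (B := B k)).toRingHom) ≫ σ k)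
      (Spec.map (CommRingCat.ofHom (Algebra.TensorProduct.includeLeftRingHom : A →+* A ⊗[As] B k))) (by
        rw [Category.assoc]; exact hd1.w)
    have hd2 : IsPullback (Spec.map (CommRingCat.ofHom
        (Algebra.TensorProduct.includeRight (R := As) (A := A) (B := B k)).toRingHom)) τd (σ k) gj :=
      IsPullback.of_bot (by rw [hsq.lift_snd]; exact hd1) (hsq.lift_fst _ _ _).symm hsq
    have hμ1 : Spec.map (CommRingCat.ofHom μ.toRingHom) ≫ Spec.map (CommRingCat.ofHom
        (Algebra.TensorProduct.includeRight (R := As) (A := Ai) (B := B k)).toRingHom) =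
        Spec.map (CommRingCat.ofHom (Algebra.TensorProduct.includeRight (R := As) (A := A) (B := B k)).toRingHom) := by
      rw [← Spec.map_comp, ← CommRingCat.ofHom_comp]
      congr 2
    have hμ2 : Spec.map (CommRingCat.ofHom μ.toRingHom) ≫
        Spec.map (CommRingCat.ofHom (Algebra.TensorProduct.includeLeftRingHom : Ai →+* C)) =
        Spec.map (CommRingCat.ofHom (Algebra.TensorProduct.includeLeftRingHom : A →+* A ⊗[As] B k)) ≫
          Spec.map (CommRingCat.ofHom ιA.toRingHom) := by
      rw [← Spec.map_comp, ← CommRingCat.ofHom_comp, ← Spec.map_comp, ← CommRingCat.ofHom_comp]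
      congr 2
    have hμsq : IsPullback (Spec.map (CommRingCat.ofHom μ.toRingHom)) τd τc v := by
      refine IsPullback.of_right (h₁₂ := Spec.map (CommRingCat.ofHom
          (Algebra.TensorProduct.includeRight (R := As) (A := Ai) (B := B k)).toRingHom))
        (h₂₂ := pullback.fst p (Spec.map (CommRingCat.ofHom (algebraMap As Ai)))) (v₁₃ := σ k) ?_ ?_ hc2
      · rw [hμ1, pullback.lift_fst]; exact hd2
      · refine pullback.hom_ext ?_ ?_
        · simp only [τc, τd, v, Category.assoc, pullback.lift_fst, hsq.lift_fst, reassoc_of% hμ1]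
        · simp only [τc, τd, v, Category.assoc, pullback.lift_snd, hsq.lift_snd_assoc, hμ2]
    haveI : IsClosedImmersion (Spec.map (CommRingCat.ofHom μ.toRingHom)) :=
      IsClosedImmersion.spec_of_surjective (CommRingCat.ofHom μ.toRingHom) hμ
    -- compare with the cover
    have hrange : Set.range (𝒱.f k) ⊆ Set.range τc := by
      rintro _ ⟨z, rfl⟩
      have hz : pullback.fst p (Spec.map (CommRingCat.ofHom (algebraMap As Ai))) (𝒱.f k z) ∈ Set.range (σ k) := by
        rw [← Scheme.Hom.comp_apply,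
          show 𝒱.f k ≫ pullback.fst p (Spec.map (CommRingCat.ofHom (algebraMap As Ai))) =
            pullback.fst (𝒰.f k ≫ p) _ ≫ 𝒰.f k by simp [𝒱],
          Scheme.Hom.comp_apply]
        exact ⟨(𝒰.X k).isoSpec.hom _, by rw [← Scheme.Hom.comp_apply, Iso.hom_inv_id_assoc]⟩
      obtain ⟨s, hs⟩ := hz
      obtain ⟨w, -, hw⟩ := Scheme.Pullback.exists_preimage_pullback (f := σ k)
        (g := pullback.fst p (Spec.map (CommRingCat.ofHom (algebraMap As Ai)))) s (𝒱.f k z) hs
      refine ⟨hc2.isoPullback.inv w, ?_⟩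
      rw [← Scheme.Hom.comp_apply, hc2.isoPullback_inv_snd]
      exact hw
    let e := IsOpenImmersion.lift τc (𝒱.f k) hrange
    have hsq2 : IsPullback (pullback.snd v (𝒱.f k)) (pullback.fst v (𝒱.f k)) (𝒱.f k) v :=
      (IsPullback.of_hasPullback v (𝒱.f k)).flip
    let e' := hμsq.lift (pullback.snd v (𝒱.f k) ≫ e) (pullback.fst v (𝒱.f k)) (by
      rw [Category.assoc, IsOpenImmersion.lift_fac]; exact hsq2.w)
    have hsq3 : IsPullback (pullback.snd v (𝒱.f k)) e' e (Spec.map (CommRingCat.ofHom μ.toRingHom)) :=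
      IsPullback.of_bot (by rw [hμsq.lift_snd, IsOpenImmersion.lift_fac]; exact hsq2)
        (hμsq.lift_fst _ _ _).symm hμsq
    exact MorphismProperty.of_isPullback hsq3.flip inferInstance
  haveI : IsProper (v ≫ pi') := inferInstance
  let ρ := v ≫ pi'
  have hfin := finite_toΓ ρ
  have hρ : ρ = π ≫ Spec.map (CommRingCat.ofHom ιA.toRingHom) := pullback.lift_snd _ _ _
  have hinjA : Function.Injective (H10Coh.toΓ π) := by
    have hred : IsReduced (Spec (CommRingCat.of A)) := inferInstance
    refine (injective_iff_map_eq_zero _).2 fun a ha => ?_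
    have h0 : (Spec (CommRingCat.of A)).basicOpen ((Scheme.ΓSpecIso (CommRingCat.of A)).inv.hom a) = ⊥ := by
      refine Opens.ext (Set.eq_empty_iff_forall_notMem.2 fun x hx => ?_)
      obtain ⟨y, rfl⟩ := π.surjective x
      have : y ∈ π ⁻¹ᵁ (Spec (CommRingCat.of A)).basicOpen ((Scheme.ΓSpecIso (CommRingCat.of A)).inv.hom a) := hx
      rw [Scheme.preimage_basicOpen_top] at this
      rw [show π.appTop.hom ((Scheme.ΓSpecIso (CommRingCat.of A)).inv.hom a) = 0 from ha, Scheme.basicOpen_zero] at this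
      exact this
    rw [basicOpen_eq_bot_iff] at h0
    exact (ConcreteCategory.bijective_of_isIso (Scheme.ΓSpecIso (CommRingCat.of A)).inv).1 (h0.trans (map_zero _).symm)
  have hcompΓ : H10Coh.toΓ ρ = (H10Coh.toΓ π).comp ιA.toRingHom := by
    rw [hρ, H10Coh.toΓ_comp]
    refine RingHom.ext fun a => congrArg π.appTop.hom ?_
    exact (RingHom.congr_fun (congrArg CommRingCat.Hom.hom
      (Scheme.ΓSpecIso_inv_naturality (CommRingCat.ofHom ιA.toRingHom))) a).symm
  rw [hcompΓ] at hfin
  letI : Algebra Ai Γ(Y'', ⊤) := ((H10Coh.toΓ π).comp ιA.toRingHom).toAlgebra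
  haveI : Module.Finite Ai Γ(Y'', ⊤) := hfin
  let L : A →ₗ[Ai] Γ(Y'', ⊤) :=
    { toFun := H10Coh.toΓ π
      map_add' := map_add _
      map_smul' := fun r a => by
        rw [Algebra.smul_def, Algebra.smul_def, map_mul]; rfl }
  haveI : Module.Finite Ai A := Module.Finite.of_injective L hinjA
  haveI : Algebra.FiniteType R Ai := Ai.fg_iff_finiteType.1 (Subalgebra.fg_adjoin_finset T)
  exact Algebra.FiniteType.trans ‹Algebra.FiniteType R Ai› inferInstance

theorem finiteType_of_univSubmersive {R A : Type u} [CommRing R] [CommRing A] [IsNoetherianRing R]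
    [IsNoetherianRing A] [Algebra R A] {X' : Scheme.{u}} [IsNoetherian X'] (f : X' ⟶ Spec (CommRingCat.of A))
    (hf : SGA1.UnivSubmersive f) [LocallyOfFiniteType (f ≫ Spec.map (CommRingCat.ofHom (algebraMap R A)))] :
    Algebra.FiniteType R A := by
  let A' := A ⧸ nilradical A
  let q : A →+* A' := Ideal.Quotient.mk _
  haveI : _root_.IsReduced A' := (Ideal.isRadical_iff_quotient_reduced _).1 (Ideal.radical_isRadical _)
  haveI : LocallyOfFiniteType f := locallyOfFiniteType_of_comp f (Spec.map (CommRingCat.ofHom (algebraMap R A)))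
  let i := Spec.map (CommRingCat.ofHom q)
  haveI : IsClosedImmersion i := IsClosedImmersion.spec_of_surjective _ Ideal.Quotient.mk_surjective
  let f' := pullback.snd f i
  have hf' : SGA1.UnivSubmersive f' := H9Et.DescPts.univSubmersive_pullback_snd hf i
  haveI : IsNoetherianRing A' := inferInstance
  haveI : LocallyOfFiniteType f' := MorphismProperty.pullback_snd (P := @LocallyOfFiniteType) f i inferInstance
  haveI : IsReduced (Spec (CommRingCat.of A')) := inferInstance
  haveI : QuasiCompact f' := MorphismProperty.pullback_snd (P := @QuasiCompact) f i inferInstance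
  haveI : QuasiSeparated f' := MorphismProperty.pullback_snd (P := @QuasiSeparated) f i inferInstance
  obtain ⟨Y'', X'', b, g, c, hb, hbs, hN, hg, hgp, hgs, hc, hcomm⟩ := exists_strict_surjective f' hf'
  haveI := hb; haveI := hbs; haveI := hN; haveI := hg; haveI := hgp; haveI := hgs; haveI := hc
  let s := Spec.map (CommRingCat.ofHom (algebraMap R A'))
  have hs : s = i ≫ Spec.map (CommRingCat.ofHom (algebraMap R A)) := by
    simp only [s, i, ← Spec.map_comp, ← CommRingCat.ofHom_comp]; rfl
  haveI : LocallyOfFiniteType (f' ≫ s) := by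
    rw [hs, ← Category.assoc, ← pullback.condition, Category.assoc]
    infer_instance
  haveI : LocallyOfFiniteType (g ≫ b ≫ s) := by
    rw [← Category.assoc, ← hcomm, Category.assoc]; infer_instance
  haveI : LocallyOfFiniteType (b ≫ s) := locallyOfFiniteType_of_flat g (b ≫ s)
  have h : Algebra.FiniteType R A' := finiteType_of_proper_surjective b
  exact RingHom.finiteType_algebraMap.1 (H8Props.ThickeningFiniteType.finiteType_of_surjective_of_fg_nilpotent
    (algebraMap R A) q Ideal.Quotient.mk_surjective (IsNoetherian.noetherian _)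
    (by rw [Ideal.mk_ker]; exact IsNoetherianRing.isNilpotent_nilradical A)
    (RingHom.finiteType_algebraMap.2 h))

end Groth.Agent.H18Qfh.DescendFT
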