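import Groth.Agent.H18Qfh.Alg
import Groth.Agent.H7Flat.AICCover
import Groth.Agent.H18HTop.SpecLift
import Groth.Agent.S1378

/-!
Zariski local lifts of the absolute integral closure to a qfh covering.
-/

set_option autoImplicit false
set_option linter.style.haveILetI false
set_option backward.isDefEq.respectTransparency false
universe u

open CategoryTheory CategoryTheory.Limits AlgebraicGeometry Opposite IsLocalRing

namespace Groth.Agent.H18Qfh

theorem exists_local_lift {Y : Scheme.{u}} [IsLocallyNoetherian Y] (E : PreZeroHypercover.{u} Y)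
    [Finite E.I₀] [∀ j, LocallyOfFiniteType (E.f j)] [∀ j, QuasiCompact (E.f j)]
    [∀ j, LocallyQuasiFinite (E.f j)] (hE : SGA1.UnivSubmersive (Sigma.desc E.f))
    (z : H7Flat.aicScheme Y) :
    ∃ (V : (H7Flat.aicScheme Y).Opens), z ∈ V ∧ IsAffineOpen V ∧
      ∃ (j : E.I₀) (h : V.toScheme ⟶ E.X j), h ≫ E.f j = V.ι ≫ H7Flat.aicProj Y := by
  classical
  obtain ⟨U₀, hU₀, hzU, -⟩ := exists_isAffineOpen_mem_and_subset
    (Set.mem_univ (H7Flat.aicProj Y z)) (U := (⊤ : Y.Opens))
  let U : Y.affineOpens := ⟨U₀, hU₀⟩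
  let D : Type u := H7Flat.aicRing Y U.1
  let chart : Spec (CommRingCat.of D) ⟶ H7Flat.aicScheme Y := H7Flat.aicChart Y U
  obtain ⟨t, rfl⟩ : z ∈ Set.range chart := by
    have : z ∈ H7Flat.aicProj Y ⁻¹ᵁ U.1 := hzU
    rw [H7Flat.aicProj_preimage] at this
    exact this
  let R := Γ(Y, U.1)
  let μ : R →+* D := ((H7Flat.aicMap Y).app (op U.1)).hom
  letI : Algebra R D := μ.toAlgebra
  have hchart : chart ≫ H7Flat.aicProj Y = Spec.map (CommRingCat.ofHom (algebraMap R D)) ≫ U.2.fromSpec :=
    H7Flat.aicChart_proj Y U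
  let p : Ideal D := t.asIdeal
  obtain ⟨hdom, hroots⟩ := H7Flat.aicRing_atPrime U.1 p
  haveI := hdom
  let A := Localization.AtPrime p
  haveI : IsIntegrallyClosed A := hroots.isIntegrallyClosed
  haveI : IsAlgClosed (FractionRing A) := hroots.isAlgClosed_fractionRing
  -- a valuation ring dominating `A`
  obtain ⟨V, hV⟩ := (LocalSubring.range (algebraMap A (FractionRing A))).exists_le_valuationSubring
  have hmem : ∀ a, algebraMap A (FractionRing A) a ∈ V := fun a => hV.choose ⟨a, rfl⟩
  let toV : A →+* V := (algebraMap A (FractionRing A)).codRestrict V.toSubring hmem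
  have hVloc : IsLocalHom toV := by
    haveI := hV.choose_spec
    have heq : toV = (Subring.inclusion hV.choose).comp (algebraMap A (FractionRing A)).rangeRestrict :=
      RingHom.ext fun _ => rfl
    haveI : IsLocalHom (algebraMap A (FractionRing A)).rangeRestrict := ⟨fun a ha =>
      (isUnit_map_iff (RingEquiv.ofBijective (algebraMap A (FractionRing A)).rangeRestrict
        ⟨fun a b h => IsFractionRing.injective A (FractionRing A) (congrArg Subtype.val h),
          (algebraMap A (FractionRing A)).rangeRestrict_surjective⟩) a).1 ha⟩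
    rw [heq]
    exact RingHom.isLocalHom_comp _ _
  let rA : R →+* A := algebraMap R A
  let v : Spec (CommRingCat.of V) ⟶ Y := Spec.map (CommRingCat.ofHom (toV.comp rA)) ≫ U.2.fromSpec
  haveI : ValuationRing V := inferInstance
  obtain ⟨W, _, _, φ, ⟨hφinj, hφloc⟩, j, g', hg'⟩ :=
    H18HTop.hasValLift_of_univSubmersive E hE (CommRingCat.of V) v
  let ιA : A →+* W := φ.hom.comp toV
  letI : Algebra A W := ιA.toAlgebra
  letI : Algebra R W := (ιA.comp rA).toAlgebra
  haveI : IsScalarTower R A W := IsScalarTower.of_algebraMap_eq fun _ => rfl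
  haveI := hφloc
  haveI := hVloc
  haveI : IsLocalHom (algebraMap A W) := RingHom.isLocalHom_comp φ.hom toV
  have hinj : Function.Injective (algebraMap A W) :=
    hφinj.comp fun a b h => IsFractionRing.injective A (FractionRing A) (congrArg Subtype.val h)
  have hg : g' ≫ E.f j = Spec.map (CommRingCat.ofHom (algebraMap R W)) ≫ U.2.fromSpec := by
    rw [hg']
    simp only [v, ← Spec.map_comp_assoc]
    rfl
  -- an affine chart of `E.X j`
  have hcl : g' (closedPoint W) ∈ E.f j ⁻¹ᵁ U.1 := by
    show (g' ≫ E.f j) (closedPoint W) ∈ (U.1 : Set Y)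
    rw [hg, ← U.2.range_fromSpec]
    exact ⟨_, rfl⟩
  obtain ⟨O, hO, hcO, hle⟩ := exists_isAffineOpen_mem_and_subset hcl
  let C := Γ(E.X j, O)
  letI : Algebra R C := ((E.f j).appLE U.1 O hle).hom.toAlgebra
  haveI : Algebra.FiniteType R C := (E.f j).finiteType_appLE U.2 hO hle
  haveI : Algebra.QuasiFinite R C := LocallyQuasiFinite.quasiFinite_appLE U.2 hO hle
  have hrange : Set.range g' ⊆ Set.range hO.fromSpec := by
    rw [hO.range_fromSpec]
    exact H18HTop.range_subset_of_closedPoint_mem g' O hcO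
  obtain ⟨c₀, hc₀⟩ : ∃ c₀ : CommRingCat.of C ⟶ W, Spec.map c₀ ≫ hO.fromSpec = g' :=
    ⟨Spec.preimage (IsOpenImmersion.lift hO.fromSpec g' hrange), by
      rw [Spec.map_preimage, IsOpenImmersion.lift_fac]⟩
  have hcomm : (E.f j).appLE U.1 O hle ≫ c₀ = CommRingCat.ofHom (algebraMap R W) := by
    apply Spec.map_injective
    rw [← cancel_mono U.2.fromSpec, Spec.map_comp, Category.assoc,
      IsAffineOpen.SpecMap_appLE_fromSpec (E.f j) U.2 hO hle, reassoc_of% hc₀, hg]
  let c : C →ₐ[R] W := { c₀.hom with commutes' := fun r => congr($hcomm r) }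
  obtain ⟨σ⟩ := exists_algHom_of_valuationPoint (R := R) (A := A) hinj c
  -- spread out
  haveI := IsLocallyNoetherian.component_noetherian (X := Y) U
  haveI : Algebra.FinitePresentation R C := Algebra.FinitePresentation.of_finiteType.1 ‹_›
  let σ' : C →ₐ[R] Localization.AtPrime p := σ
  obtain ⟨g, hg0, ⟨ψ⟩⟩ := S1378.exists_away_lift p σ'
  let k : Spec (CommRingCat.of (Localization.Away g)) ⟶ H7Flat.aicScheme Y :=
    Spec.map (CommRingCat.ofHom (algebraMap D (Localization.Away g))) ≫ chart
  let h' : Spec (CommRingCat.of (Localization.Away g)) ⟶ E.X j :=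
    Spec.map (CommRingCat.ofHom ψ.toRingHom) ≫ hO.fromSpec
  have hh' : h' ≫ E.f j = k ≫ H7Flat.aicProj Y := by
    simp only [h', k, Category.assoc, hchart]
    rw [← IsAffineOpen.SpecMap_appLE_fromSpec (E.f j) U.2 hO hle, ← Spec.map_comp_assoc,
      ← Spec.map_comp_assoc]
    congr 2
    ext r
    show ψ (algebraMap R C r) = algebraMap D (Localization.Away g) (algebraMap R D r)
    rw [ψ.commutes, IsScalarTower.algebraMap_apply R D (Localization.Away g)]
  refine ⟨k.opensRange, ?_, isAffineOpen_opensRange k, j, k.isoOpensRange.inv ≫ h', ?_⟩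
  · exact ⟨⟨p.map (algebraMap D (Localization.Away g)),
      IsLocalization.isPrime_of_isPrime_disjoint (Submonoid.powers g) _ _ t.2
        ((Ideal.disjoint_powers_iff_notMem g (t.2.isRadical)).2 hg0)⟩, congrArg chart
      (PrimeSpectrum.ext (IsLocalization.under_map_of_isPrime_disjoint (Submonoid.powers g) _ t.2
        ((Ideal.disjoint_powers_iff_notMem g (t.2.isRadical)).2 hg0)))⟩
  · rw [Category.assoc, hh', ← Category.assoc, Scheme.Hom.isoOpensRange_inv_comp]

end Groth.Agent.H18Qfh
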