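import Groth.Agent.H18Qfh.Descend
import Groth.Agent.H18HTop.JhAlmost
import Groth.Agent.H02CA.QuasiFiniteSlice
import Groth.Agent.H15Subtr.UnivSub
import Groth.Agent.H17.Reduced

/-!
# h coverings are refined by a blow up followed by a finite surjection and a Zariski covering
-/

set_option autoImplicit false
set_option linter.style.haveILetI false
set_option backward.isDefEq.respectTransparency false

universe u

open CategoryTheory CategoryTheory.Limits AlgebraicGeometry TopologicalSpace HTop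

namespace Groth.Agent.H18Qfh

theorem exists_specializes_of_dense {Y : Scheme.{u}} [IsNoetherian Y] (A : Y.Opens) (hA : Dense (A : Set Y))
    (y : Y) : ∃ y₀ ∈ A, y₀ ⤳ y := by
  haveI : NoetherianSpace (A : Scheme.{u}) := A.ι.isOpenEmbedding.isInducing.noetherianSpace
  have hu : Set.range A.ι = ⋃ C ∈ irreducibleComponents (A : Scheme.{u}), A.ι '' C := by
    rw [← Set.image_univ, ← sUnion_irreducibleComponents, Set.sUnion_eq_biUnion, Set.image_iUnion₂]
  have hy : y ∈ closure (Set.range A.ι) := by rw [Scheme.Opens.range_ι]; exact hA y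
  rw [hu, NoetherianSpace.finite_irreducibleComponents.closure_biUnion, Set.mem_iUnion₂] at hy
  obtain ⟨C, hC, hyC⟩ := hy
  obtain ⟨η, hη⟩ := QuasiSober.sober hC.1 (isClosed_of_mem_irreducibleComponents C hC)
  refine ⟨A.ι η, η.2, specializes_iff_mem_closure.2 (closure_minimal ?_ isClosed_closure hyC)⟩
  rw [← hη]
  exact (image_closure_subset_closure_image A.ι.continuous).trans (by rw [Set.image_singleton])

/-- A dense open over which the morphism is flat. -/
theorem exists_dense_flat {X Y : Scheme.{u}} [IsNoetherian Y] [IsReduced Y] (f : X ⟶ Y)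
    [LocallyOfFiniteType f] [QuasiCompact f] :
    ∃ V : Y.Opens, Dense (V : Set Y) ∧ Flat (f ∣_ V) := by
  let T := {W : Y.Opens // Flat (f ∣_ W)}
  let V : Y.Opens := ⨆ W : T, W.1
  have hV : Flat (f ∣_ V) := by
    refine IsZariskiLocalAtTarget.of_iSup_eq_top (P := @Flat) (fun W : T => V.ι ⁻¹ᵁ W.1) ?_ fun W => ?_
    · exact top_le_iff.1 fun x _ => by
        obtain ⟨W, hW⟩ := Opens.mem_iSup.1 x.2
        exact Opens.mem_iSup.2 ⟨W, hW⟩
    · rw [MorphismProperty.arrow_mk_iso_iff @Flat (morphismRestrictRestrict f V _),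
        Scheme.Hom.image_preimage_eq_opensRange_inf, Scheme.Opens.opensRange_ι]
      rw [inf_of_le_right (le_iSup (fun W : T => W.1) W)]
      exact W.2
  refine ⟨V, dense_iff_inter_open.2 fun O hO hne => ?_, hV⟩
  by_contra hd
  let O' : Y.Opens := ⟨O, hO⟩
  haveI : Nonempty (O' : Scheme.{u}) := ⟨⟨hne.some, hne.some_mem⟩⟩
  haveI : IsNoetherian (O' : Scheme.{u}) :=
    { toIsLocallyNoetherian := isLocallyNoetherian_of_isOpenImmersion O'.ι
      toCompactSpace := isCompact_iff_compactSpace.1 (NoetherianSpace.isCompact _) }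
  haveI : IsReduced (O' : Scheme.{u}) := isReduced_of_isOpenImmersion O'.ι
  haveI : LocallyOfFiniteType (f ∣_ O') :=
    IsZariskiLocalAtTarget.restrict (P := @LocallyOfFiniteType) inferInstance _
  haveI : QuasiCompact (f ∣_ O') := IsZariskiLocalAtTarget.restrict (P := @QuasiCompact) inferInstance _
  obtain ⟨W, -, ⟨w, hw⟩, hWf⟩ := H18HTop.JhAlmost.exists_open_flat (f ∣_ O')
  rw [MorphismProperty.arrow_mk_iso_iff @Flat (morphismRestrictRestrict f O' W)] at hWf
  refine hd ⟨O'.ι w, w.2, ?_⟩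
  exact Opens.mem_iSup.2 ⟨⟨O'.ι ''ᵁ W, hWf⟩, w, hw, rfl⟩

/-- A flat morphism of finite type has quasi-finite flat quasi-sections through every point of its image. -/
theorem exists_slice_over {X Y : Scheme.{u}} [IsLocallyNoetherian Y] (g : X ⟶ Y) [Flat g]
    [LocallyOfFinitePresentation g] (x : X) (O : X.Opens) (hx : x ∈ O) :
    ∃ (W : Scheme.{u}) (w : W ⟶ Y) (h : W ⟶ X), IsAffine W ∧ Flat w ∧ LocallyOfFinitePresentation w ∧
      LocallyQuasiFinite w ∧ QuasiCompact w ∧ h ≫ g = w ∧ Set.range h ⊆ (O : Set X) ∧ g x ∈ Set.range w := by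
  obtain ⟨U₀, hU₀, hxU₀, -⟩ := exists_isAffineOpen_mem_and_subset (Opens.mem_top (g x))
  obtain ⟨A₀, hA₀, hxA₀, hA₀le⟩ := exists_isAffineOpen_mem_and_subset (U := O ⊓ g ⁻¹ᵁ U₀) (x := x) ⟨hx, hxU₀⟩
  have hopen : IsOpen (g '' (A₀ : Set X)) := g.isOpenMap _ A₀.2
  obtain ⟨r, hr, hxr⟩ := hU₀.exists_basicOpen_le (V := ⟨g '' (A₀ : Set X), hopen⟩) ⟨g x, x, hxA₀, rfl⟩ hxU₀
  let U := Y.basicOpen r
  have hU : IsAffineOpen U := hU₀.basicOpen r
  let A : X.Opens := X.basicOpen ((g.appLE U₀ A₀ fun z hz => (hA₀le hz).2).hom r)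
  have hA : IsAffineOpen A := hA₀.basicOpen _
  have hAeq : A = A₀ ⊓ g ⁻¹ᵁ U := by
    refine Opens.ext ?_
    simp only [A, U, Scheme.Hom.appLE, CommRingCat.hom_comp, RingHom.comp_apply, Scheme.basicOpen_res,
      ← Scheme.preimage_basicOpen]
  have e : A ≤ g ⁻¹ᵁ U := hAeq.le.trans inf_le_right
  let ρ := g.appLE U A e
  haveI : IsNoetherianRing Γ(Y, U) := IsLocallyNoetherian.component_noetherian ⟨U, hU⟩
  have hflat : ρ.hom.Flat := HasRingHomProperty.appLE @Flat g inferInstance ⟨U, hU⟩ ⟨A, hA⟩ e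
  have hfp : ρ.hom.FinitePresentation :=
    HasRingHomProperty.appLE @LocallyOfFinitePresentation g inferInstance ⟨U, hU⟩ ⟨A, hA⟩ e
  algebraize [ρ.hom]
  have hsurj : Function.Surjective (PrimeSpectrum.comap ρ.hom) := fun q => by
    let y : Y := hU.fromSpec q
    have hy : y ∈ U := by
      rw [← SetLike.mem_coe, ← hU.range_fromSpec]; exact ⟨q, rfl⟩
    obtain ⟨z, hz, hzy⟩ := hr hy
    have hzA : z ∈ A := by
      rw [hAeq]; exact ⟨hz, by show g z ∈ U; rw [hzy]; exact hy⟩
    obtain ⟨z', rfl⟩ : z ∈ Set.range hA.fromSpec := by rw [hA.range_fromSpec]; exact hzA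
    refine ⟨z', hU.fromSpec.isOpenEmbedding.injective ?_⟩
    change hU.fromSpec (Spec.map ρ z') = _
    rw [← Scheme.Hom.comp_apply, hU.SpecMap_appLE_fromSpec g hA e, Scheme.Hom.comp_apply]
    exact hzy
  haveI : Module.Flat Γ(Y, U) Γ(X, A) := hflat
  haveI : Module.FaithfullyFlat Γ(Y, U) Γ(X, A) :=
    Module.FaithfullyFlat.of_comap_surjective hsurj
  obtain ⟨q, hq⟩ : g x ∈ Set.range hU.fromSpec := by rw [hU.range_fromSpec]; exact hxr
  obtain ⟨C, _, _, hCfp, hCqf, hCfl, ⟨ψ⟩, q', hq'⟩ :=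
    Groth.Agent.H02CA.Slice.exists_slice (R := Γ(Y, U)) (S := Γ(X, A)) q.asIdeal
  let w : Spec (CommRingCat.of C) ⟶ Y := Spec.map (CommRingCat.ofHom (algebraMap Γ(Y, U) C)) ≫ hU.fromSpec
  have : IsLocallyNoetherian Y := inferInstance
  haveI : QuasiSeparatedSpace Y := inferInstance
  refine ⟨Spec (CommRingCat.of C), w, Spec.map (CommRingCat.ofHom ψ.toRingHom) ≫ hA.fromSpec, inferInstance,
    ?_, ?_, ?_, ?_, ?_, ?_, q', ?_⟩
  · haveI : Flat (Spec.map (CommRingCat.ofHom (algebraMap Γ(Y, U) C))) :=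
      (HasRingHomProperty.Spec_iff (P := @Flat)).2 (RingHom.flat_algebraMap_iff.2 hCfl)
    exact inferInstanceAs (Flat (_ ≫ _))
  · haveI : LocallyOfFinitePresentation (Spec.map (CommRingCat.ofHom (algebraMap Γ(Y, U) C))) :=
      (HasRingHomProperty.Spec_iff (P := @LocallyOfFinitePresentation)).2
        (RingHom.finitePresentation_algebraMap.2 hCfp)
    exact inferInstanceAs (LocallyOfFinitePresentation (_ ≫ _))
  · haveI : LocallyQuasiFinite (Spec.map (CommRingCat.ofHom (algebraMap Γ(Y, U) C))) :=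
      (HasRingHomProperty.Spec_iff (P := @LocallyQuasiFinite)).2 (RingHom.quasiFinite_algebraMap.2 hCqf)
    exact inferInstanceAs (LocallyQuasiFinite (_ ≫ _))
  · exact inferInstanceAs (QuasiCompact (_ ≫ _))
  · rw [Category.assoc, ← hU.SpecMap_appLE_fromSpec g hA e, ← Spec.map_comp_assoc]
    congr 2
    exact CommRingCat.hom_ext ψ.comp_algebraMap
  · rintro _ ⟨z, rfl⟩
    rw [Scheme.Hom.comp_apply]
    have : hA.fromSpec (Spec.map (CommRingCat.ofHom ψ.toRingHom) z) ∈ A := by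
      rw [← SetLike.mem_coe, ← hA.range_fromSpec]; exact ⟨_, rfl⟩
    exact (hA₀le ((hAeq.le.trans inf_le_left) this)).1
  · show w q' = g x
    rw [← hq]
    exact congrArg hU.fromSpec hq'

/-- h coverings are refined by a blow up, a finite surjection and a Zariski covering. -/
theorem exists_blowUp_refinement {Y : Scheme.{u}} [IsNoetherian Y] (E : PreZeroHypercover.{u} Y) [Finite E.I₀]
    [∀ j, LocallyOfFiniteType (E.f j)] [∀ j, QuasiCompact (E.f j)] [∀ j, IsSeparated (E.f j)]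
    (hE : SGA1.UnivSubmersive (Sigma.desc E.f)) :
    ∃ (Yr Y'' Y' : Scheme.{u}) (ι : Yr ⟶ Y) (𝓘 : Yr.IdealSheafData) (b : Y'' ⟶ Yr) (q : Y' ⟶ Y'') (n : ℕ)
      (V : Fin n → Y'.Opens), IsClosedImmersion ι ∧ Surjective ι ∧ IsReduced Yr ∧ BlowUp.IsBlowUp b 𝓘 ∧
      Surjective b ∧ IsFinite q ∧ Surjective q ∧ IsProper (q ≫ b ≫ ι) ∧ Surjective (q ≫ b ≫ ι) ∧
      ⨆ i, V i = ⊤ ∧
      ∀ i, ∃ (j : E.I₀) (h : (↑(V i) : Scheme.{u}) ⟶ E.X j), h ≫ E.f j = (V i).ι ≫ q ≫ b ≫ ι := by
  classical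
  -- the reduction
  let J := Scheme.IdealSheafData.vanishingIdeal (X := Y) ⊤
  let Yr := J.subscheme
  let ι : Yr ⟶ Y := J.subschemeι
  haveI : Surjective ι := ⟨fun y => by
    have : y ∈ Set.range J.subschemeι := by
      rw [Scheme.IdealSheafData.range_subschemeι, Scheme.IdealSheafData.coe_support_vanishingIdeal]
      trivial
    exact this⟩
  haveI : IsReduced Yr := H17.isReduced_vanishingIdeal_subscheme _
  haveI : IsLocallyNoetherian Yr := LocallyOfFiniteType.isLocallyNoetherian ι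
  haveI : CompactSpace Yr := QuasiCompact.compactSpace_of_compactSpace ι
  haveI : IsNoetherian Yr := {}
  let E₁ := E.pullback₁ ι
  haveI : Finite E₁.I₀ := ‹Finite E.I₀›
  haveI : ∀ j, LocallyOfFiniteType (E₁.f j) := fun j =>
    MorphismProperty.pullback_fst (P := @LocallyOfFiniteType) ι (E.f j) inferInstance
  haveI : ∀ j, QuasiCompact (E₁.f j) := fun j =>
    MorphismProperty.pullback_fst (P := @QuasiCompact) ι (E.f j) inferInstance
  haveI : ∀ j, IsSeparated (E₁.f j) := fun j =>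
    MorphismProperty.pullback_fst (P := @IsSeparated) ι (E.f j) inferInstance
  have hE₁ := H18HTop.univSubmersive_pullback₁ E hE ι
  let f : (∐ E₁.X) ⟶ Yr := Sigma.desc E₁.f
  haveI : LocallyOfFiniteType f :=
    (IsZariskiLocalAtSource.iff_of_openCover (P := @LocallyOfFiniteType) (sigmaOpenCover _)).2 fun j => by
      change LocallyOfFiniteType (Sigma.ι E₁.X j ≫ f)
      rw [Sigma.ι_desc]; infer_instance
  haveI : ∀ j, CompactSpace (E₁.X j) := fun j => QuasiCompact.compactSpace_of_compactSpace (E₁.f j)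
  haveI : CompactSpace (∐ E₁.X : Scheme.{u}) := by
    haveI : Finite (sigmaOpenCover E₁.X).I₀ := ‹Finite E₁.I₀›
    haveI : ∀ j, CompactSpace ((sigmaOpenCover E₁.X).X j) := fun j => inferInstanceAs (CompactSpace (E₁.X j))
    exact Scheme.OpenCover.compactSpace (sigmaOpenCover E₁.X)
  haveI : QuasiCompact f := inferInstance
  haveI : IsSeparated f := Groth.Agent.H12AlgSp.isSeparated_sigmaDesc E₁.f fun j => inferInstance
  obtain ⟨V, hVd, hVf⟩ := exists_dense_flat f
  haveI := hVf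
  haveI : LocallyOfFiniteType (f ∣_ V) := IsZariskiLocalAtTarget.restrict (P := @LocallyOfFiniteType) inferInstance _
  haveI : IsLocallyNoetherian (V : Scheme.{u}) := isLocallyNoetherian_of_isOpenImmersion V.ι
  haveI : LocallyOfFinitePresentation (f ∣_ V) := H18HTop.locallyOfFinitePresentation_of_noetherian _
  obtain ⟨𝓘, Y'', b, hb, hadm, haway, hflat⟩ :=
    H7Flat.Flatten.exists_strict_flattening f V (NoetherianSpace.isCompact _)
  haveI : IsProper b := H26Blow.isProper_of_isBlowUp hb fun y => by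
    obtain ⟨U, hU, hyU, -⟩ := exists_isAffineOpen_mem_and_subset (Opens.mem_top y)
    exact ⟨⟨U, hU⟩, hyU, hadm.1 _⟩
  haveI : Surjective b := ⟨by
    have hV : (V : Set Yr) ⊆ Set.range b := fun y hy => by
      haveI : IsIso (b ∣_ V) := H29Blow.isIso_morphismRestrict hb V fun x hx => by
        have : x ∈ awayFrom 𝓘 := haway ▸ hx
        exact this
      obtain ⟨z, hz⟩ := (b ∣_ V).surjective ⟨y, hy⟩
      exact ⟨z.1, (H18HTop.JhAlmost.restrict_coe b V z).symm.trans (congrArg Subtype.val hz)⟩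
    intro y
    exact closure_minimal hV b.isClosedMap.isClosed_range (hVd y)⟩
  haveI : IsLocallyNoetherian Y'' := LocallyOfFiniteType.isLocallyNoetherian b
  haveI : CompactSpace Y'' := QuasiCompact.compactSpace_of_compactSpace b
  haveI : IsNoetherian Y'' := {}
  let p₁ := pullback.snd b f
  let p₂ := pullback.fst b f
  let K := supportedOn ((𝓘.comap f).comap p₁)
  let g := K.subschemeι ≫ p₂
  obtain ⟨hgfl, hgfp, -, -⟩ := hflat _ p₁ p₂ (IsPullback.of_hasPullback b f).flip
  haveI : Flat g := hgfl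
  haveI : LocallyOfFinitePresentation g := hgfp
  -- the strict transform still surjects
  have hsurj : ∀ y : Y'', ∃ x, g x = y := by
    intro y
    haveI := H7Flat.Flatten.isDominant_awayFrom hb.1
    have hd : Dense (awayFrom (𝓘.comap b) : Set Y'') := by
      have := (awayFrom (𝓘.comap b)).ι.denseRange
      rwa [DenseRange, Scheme.Opens.range_ι] at this
    obtain ⟨y₀, hy₀, hsp⟩ := exists_specializes_of_dense _ hd y
    haveI : Finite (PreZeroHypercover.singleton.{u} f).I₀ := inferInstanceAs (Finite PUnit)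
    haveI : ∀ i, LocallyOfFiniteType ((PreZeroHypercover.singleton.{u} f).f i) := fun _ => ‹LocallyOfFiniteType f›
    haveI : ∀ i, QuasiCompact ((PreZeroHypercover.singleton.{u} f).f i) := fun _ => ‹QuasiCompact f›
    obtain ⟨⟨⟩, a, a', haa, ha, ha'⟩ := H18HTop.exists_specializes_pullback (PreZeroHypercover.singleton.{u} f)
      ((H18HTop.univSubmersive_iff_desc_singleton f).1 hE₁) b hsp
    have hmem : a ∈ awayFrom ((𝓘.comap f).comap p₁) := by
      rw [← Scheme.IdealSheafData.comap_comp, show p₁ ≫ f = p₂ ≫ b from pullback.condition.symm,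
        Scheme.IdealSheafData.comap_comp, H18HTop.awayFrom_comap]
      show p₂ a ∈ awayFrom (𝓘.comap b)
      exact ha.symm ▸ hy₀
    obtain ⟨z, hz⟩ : a ∈ Set.range K.subschemeι := by
      let A' := awayFrom ((𝓘.comap f).comap p₁)
      let a₁ : (A' : Scheme.{u}) := ⟨a, hmem⟩
      refine ⟨A'.ι.toImage a₁, ?_⟩
      show (A'.ι.toImage ≫ A'.ι.imageι) a₁ = a
      rw [A'.ι.toImage_imageι]
      rfl
    have : a' ∈ Set.range K.subschemeι :=
      haa.mem_closed K.subschemeι.isClosedEmbedding.isClosed_range ⟨z, hz⟩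
    obtain ⟨z', hz'⟩ := this
    exact ⟨z', by rw [Scheme.Hom.comp_apply, hz']; exact ha'⟩
  -- slices
  have hloc : ∀ y : Y'', ∃ (W : Scheme.{u}) (w : W ⟶ Y'') (j : E.I₀) (h : W ⟶ E.X j), IsAffine W ∧ Flat w ∧
      LocallyOfFinitePresentation w ∧ LocallyQuasiFinite w ∧ QuasiCompact w ∧ y ∈ Set.range w ∧
      h ≫ E.f j = w ≫ b ≫ ι := by
    intro y
    obtain ⟨x, rfl⟩ := hsurj y
    let c := K.subschemeι ≫ p₁
    obtain ⟨j, z, hz⟩ := (sigmaOpenCover E₁.X).exists_eq (c x)
    obtain ⟨W, w, h, hW, h1, h2, h3, h4, hw, hrange, hyw⟩ :=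
      exists_slice_over g x (c ⁻¹ᵁ (Sigma.ι E₁.X j).opensRange) ⟨z, hz⟩
    have hr : Set.range (h ≫ c) ⊆ Set.range (Sigma.ι E₁.X j) := by
      rintro _ ⟨v, rfl⟩
      rw [Scheme.Hom.comp_apply]
      exact hrange ⟨v, rfl⟩
    refine ⟨W, w, j, IsOpenImmersion.lift (Sigma.ι E₁.X j) (h ≫ c) hr ≫ pullback.snd ι (E.f j), hW, h1, h2, h3,
      h4, hyw, ?_⟩
    rw [Category.assoc, ← pullback.condition]
    have e : pullback.fst ι (E.f j) = Sigma.ι E₁.X j ≫ f := (Sigma.ι_desc E₁.f j).symm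
    rw [e, Category.assoc, IsOpenImmersion.lift_fac_assoc, Category.assoc, Category.assoc, ← hw]
    simp only [g, Category.assoc]
    rw [← pullback.condition_assoc]
  choose W w jW hW hWa hWfl hWfp hWqf hWqc hyW hWh using hloc
  obtain ⟨s, hs⟩ := isCompact_univ.elim_finite_subcover (fun y => Set.range (w y))
    (fun y => by
      haveI := hWfl y; haveI := hWfp y
      exact (w y).isOpenMap.isOpen_range)
    fun y _ => Set.mem_iUnion.2 ⟨y, hyW y⟩
  let E' : PreZeroHypercover.{u} Y'' := ⟨{y // y ∈ s}, fun y => W y.1, fun y => w y.1⟩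
  haveI : Finite E'.I₀ := inferInstanceAs (Finite {y // y ∈ s})
  haveI : ∀ y, LocallyQuasiFinite (E'.f y) := fun y => hWqf y.1
  haveI : ∀ y, QuasiCompact (E'.f y) := fun y => hWqc y.1
  haveI : ∀ y, LocallyOfFiniteType (E'.f y) := fun y => by
    haveI : LocallyOfFinitePresentation (E'.f y) := hWfp y.1
    infer_instance
  have hE' : SGA1.UnivSubmersive (Sigma.desc E'.f) := by
    haveI : LocallyOfFinitePresentation (Sigma.desc E'.f) :=
      (IsZariskiLocalAtSource.iff_of_openCover (P := @LocallyOfFinitePresentation) (sigmaOpenCover _)).2 fun y => by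
        change LocallyOfFinitePresentation (Sigma.ι E'.X y ≫ Sigma.desc E'.f)
        rw [Sigma.ι_desc]; exact hWfp y.1
    haveI : Flat (Sigma.desc E'.f) :=
      (IsZariskiLocalAtSource.iff_of_openCover (P := @Flat) (sigmaOpenCover _)).2 fun y => by
        change Flat (Sigma.ι E'.X y ≫ Sigma.desc E'.f)
        rw [Sigma.ι_desc]; exact hWfl y.1
    haveI : Surjective (Sigma.desc E'.f) := ⟨fun y => by
      obtain ⟨y₀, hy₀, v, hv⟩ := Set.mem_iUnion₂.1 (hs (Set.mem_univ y))
      refine ⟨Sigma.ι E'.X ⟨y₀, hy₀⟩ v, ?_⟩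
      rw [← Scheme.Hom.comp_apply, Sigma.ι_desc]
      exact hv⟩
    exact H15Subtr.univSubmersive_of_universallyOpen _
  obtain ⟨Y', q, n, O, hq, hqs, hO, hlift⟩ := exists_finite_refinement E' hE'
  haveI := hq; haveI := hqs
  refine ⟨Yr, Y'', Y', ι, 𝓘, b, q, n, O, inferInstance, inferInstance, inferInstance, hb, inferInstance,
    inferInstance, inferInstance, inferInstance, inferInstance, hO, fun i => ?_⟩
  obtain ⟨y, h, hh⟩ := hlift i
  refine ⟨jW y.1, h ≫ hW y.1, ?_⟩
  rw [Category.assoc, hWh y.1, ← Category.assoc, show h ≫ w y.1 = (O i).ι ≫ q from hh, Category.assoc]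

end Groth.Agent.H18Qfh
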